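import Groth.Agent.SpecialTrig.Filt
import Mathlib.RingTheory.TensorProduct.Maps
import Mathlib.RingTheory.HopfAlgebra.TensorProduct
import Mathlib.RingTheory.DiscreteValuationRing.Basic
import Mathlib.RingTheory.Flat.Basic
import Mathlib.LinearAlgebra.TensorProduct.Quotient
import Mathlib.RingTheory.LocalRing.ResidueField.Basic

/-!
# Trigonalisable and unipotent groups specialise
-/

universe u

open TensorProduct

namespace Groth.Agent.SpecialTrig

variable {A : Type u} [CommRing A] {H : Type u} [CommRing H] [HopfAlgebra A H]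

section Phi

variable (R : Type u) [CommRing R] [Algebra A R]

/-- Base change of the tensor square. -/
noncomputable def phi : H ⊗[A] H →ₗ[A] (R ⊗[A] H) ⊗[R] (R ⊗[A] H) :=
  TensorProduct.lift (LinearMap.mk₂ A (fun a b => ((1 : R) ⊗ₜ[A] a) ⊗ₜ[R] ((1 : R) ⊗ₜ[A] b))
    (fun a a' b => by rw [tmul_add, add_tmul])
    (fun r a b => by rw [TensorProduct.tmul_smul, ← TensorProduct.smul_tmul'])
    (fun a b b' => by rw [tmul_add, tmul_add])
    (fun r a b => by rw [TensorProduct.tmul_smul, TensorProduct.tmul_smul]))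

@[simp]
theorem phi_tmul (a b : H) : phi R (a ⊗ₜ[A] b) = ((1 : R) ⊗ₜ[A] a) ⊗ₜ[R] ((1 : R) ⊗ₜ[A] b) := rfl

theorem comul_one_tmul (h : H) :
    Coalgebra.comul (R := R) ((1 : R) ⊗ₜ[A] h) = phi R (Coalgebra.comul (R := A) h) := by
  rw [TensorProduct.comul_tmul, CommSemiring.comul_apply]
  induction Coalgebra.comul (R := A) h using TensorProduct.induction_on with
  | zero => simp
  | add p q hp hq => simp only [tmul_add, map_add, hp, hq]
  | tmul a b => rfl

theorem isGroupLikeElem_one_tmul {g : H} (hg : IsGroupLikeElem A g) : IsGroupLikeElem R ((1 : R) ⊗ₜ[A] g) :=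
  ⟨by rw [TensorProduct.counit_tmul, hg.counit_eq_one, one_smul]; rfl,
    by rw [comul_one_tmul, hg.comul_eq_tmul_self, phi_tmul]⟩

end Phi

/-- Layers by twisted primitive elements. -/
def E (S : Set H) : ℕ → Submodule A H
  | 0 => ⊥
  | r + 1 => Submodule.span A {h | ∃ g ∈ S,
      Coalgebra.comul (R := A) h - h ⊗ₜ[A] g ∈ LinearMap.range ((E S r).subtype.rTensor H)}

theorem range_rTensor_mono {P Q : Submodule A H} (h : P ≤ Q) :
    LinearMap.range (P.subtype.rTensor H) ≤ LinearMap.range (Q.subtype.rTensor H) := by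
  rintro _ ⟨z, rfl⟩
  refine ⟨(Submodule.inclusion h).rTensor H z, ?_⟩
  rw [← LinearMap.comp_apply, ← LinearMap.rTensor_comp]
  rfl

theorem E_mono (S : Set H) : Monotone (E (A := A) S) := monotone_nat_of_le_succ fun r => by
  induction r with
  | zero => exact bot_le
  | succ r ih =>
    exact Submodule.span_mono fun h ⟨g, hg, hz⟩ => ⟨g, hg, range_rTensor_mono ih hz⟩

section Special

variable (k : Type u) [Field k] [Algebra A k]

theorem exists_special (S : Set H) (hS : ∀ g ∈ S, IsGroupLikeElem A g) (hex : ∀ h : H, ∃ r, h ∈ E (A := A) S r) :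
    ∃ C : ℕ → Submodule k (k ⊗[A] H), C 0 = ⊥ ∧ Monotone C ∧ (⨆ r, C r) = ⊤ ∧
      ∀ r, C (r + 1) ≤ Submodule.span k {x | ∃ g ∈ (fun g : H => (1 : k) ⊗ₜ[A] g) '' S,
        Coalgebra.comul (R := k) x - x ⊗ₜ[k] g ∈ LinearMap.range ((C r).subtype.rTensor (k ⊗[A] H))} := by
  let C : ℕ → Submodule k (k ⊗[A] H) := fun r => Submodule.span k ((fun h : H => (1 : k) ⊗ₜ[A] h) '' E (A := A) S r)
  refine ⟨C, ?_, fun r s hrs => Submodule.span_mono (Set.image_mono (E_mono S hrs)), ?_, fun r => ?_⟩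
  · exact Submodule.span_eq_bot.mpr (by rintro _ ⟨h, hh, rfl⟩; rw [(Submodule.mem_bot A).mp hh]; exact tmul_zero _ _)
  · refine eq_top_iff.mpr fun x _ => ?_
    induction x using TensorProduct.induction_on with
    | zero => exact Submodule.zero_mem _
    | add p q hp hq => exact Submodule.add_mem _ (hp trivial) (hq trivial)
    | tmul c h =>
      obtain ⟨r, hr⟩ := hex h
      rw [show c ⊗ₜ[A] h = c • ((1 : k) ⊗ₜ[A] h) by rw [smul_tmul', smul_eq_mul, mul_one]]
      exact Submodule.smul_mem _ _ (Submodule.mem_iSup_of_mem r (Submodule.subset_span ⟨h, hr, rfl⟩))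
  · refine Submodule.span_le.mpr ?_
    rintro _ ⟨h, hh, rfl⟩
    change h ∈ E S (r + 1) at hh
    rw [E] at hh
    show (1 : k) ⊗ₜ[A] h ∈ _
    induction hh using Submodule.span_induction with
    | zero => rw [tmul_zero]; exact Submodule.zero_mem _
    | add p q _ _ hp hq => rw [tmul_add]; exact Submodule.add_mem _ hp hq
    | smul a p _ hp => rw [TensorProduct.tmul_smul, ← algebraMap_smul k a]; exact Submodule.smul_mem _ _ hp
    | mem x hx =>
      obtain ⟨g, hg, z, hz⟩ := hx
      refine Submodule.subset_span ⟨_, ⟨g, hg, rfl⟩, ?_⟩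
      rw [comul_one_tmul, show ((1 : k) ⊗ₜ[A] x) ⊗ₜ[k] ((1 : k) ⊗ₜ[A] g) = phi k (x ⊗ₜ[A] g) from rfl, ← map_sub, ← hz]
      clear hz
      induction z using TensorProduct.induction_on with
      | zero => rw [map_zero, map_zero]; exact Submodule.zero_mem _
      | add p q hp hq => rw [map_add, map_add]; exact Submodule.add_mem _ hp hq
      | tmul e b =>
        exact ⟨(⟨(1 : k) ⊗ₜ[A] (e : H), Submodule.subset_span ⟨e, e.2, rfl⟩⟩ : C r) ⊗ₜ[k] ((1 : k) ⊗ₜ[A] b), rfl⟩

end Special

section Generic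

variable [IsDomain A] [Module.Flat A H] {K : Type u} [Field K] [Algebra A K] [IsFractionRing A K]

/-- The integral points of a subspace of the generic fibre. -/
noncomputable def lat (F : Submodule K (K ⊗[A] H)) : Submodule A H :=
  (F.restrictScalars A).comap (TensorProduct.mk A K H 1)

theorem purity (F : Submodule K (K ⊗[A] H)) {z : H ⊗[A] H}
    (hz : phi K z ∈ LinearMap.range (F.subtype.rTensor (K ⊗[A] H))) :
    z ∈ LinearMap.range ((lat F).subtype.rTensor H) := by
  let j : H →ₗ[A] (K ⊗[A] H) ⧸ F := F.mkQ.restrictScalars A ∘ₗ TensorProduct.mk A K H 1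
  have hex : Function.Exact (lat F).subtype j := LinearMap.exact_iff.mpr <| by
    rw [Submodule.range_subtype]
    ext h
    show F.mkQ ((1 : K) ⊗ₜ[A] h) = 0 ↔ (1 : K) ⊗ₜ[A] h ∈ F
    exact Submodule.Quotient.mk_eq_zero F
  refine ((Module.Flat.rTensor_exact (M := H) hex) z).mp ?_
  obtain ⟨y, hy⟩ := hz
  have key : ∀ t : H ⊗[A] H, j.rTensor H t =
      AlgebraTensorModule.cancelBaseChange A K K ((K ⊗[A] H) ⧸ F) H (F.mkQ.rTensor (K ⊗[A] H) (phi K t)) := fun t => by
    induction t using TensorProduct.induction_on with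
    | zero => simp
    | add p q hp hq => simp only [map_add, hp, hq]
    | tmul a b => simp [j]
  rw [key, ← hy, ← LinearMap.comp_apply (F.mkQ.rTensor _), ← LinearMap.rTensor_comp,
    show F.mkQ ∘ₗ F.subtype = 0 from LinearMap.ext fun x => (Submodule.Quotient.mk_eq_zero F).mpr x.2,
    LinearMap.rTensor_zero, LinearMap.zero_apply, map_zero]

theorem one_tmul_injective : Function.Injective fun h : H => (1 : K) ⊗ₜ[A] h :=
  Algebra.TensorProduct.includeRight_injective (IsFractionRing.injective A K)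

theorem phi_injective : Function.Injective (phi (A := A) (H := H) K) := fun z z' h => by
  refine sub_eq_zero.mp ?_
  obtain ⟨y, hy⟩ := purity (⊥ : Submodule K (K ⊗[A] H)) (z := z - z') (by rw [map_sub, h, sub_self]; exact Submodule.zero_mem _)
  have h0 : (lat (⊥ : Submodule K (K ⊗[A] H))).subtype = 0 := LinearMap.ext fun x =>
    one_tmul_injective (K := K) (((Submodule.mem_bot K).mp (show (1 : K) ⊗ₜ[A] x.1 ∈ (⊥ : Submodule K (K ⊗[A] H)) from x.2)).trans
      (tmul_zero H (1 : K)).symm)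
  rw [← hy, h0, LinearMap.rTensor_zero, LinearMap.zero_apply]

theorem exists_denom (x : K ⊗[A] H) : ∃ s : A, s ≠ 0 ∧ ∃ h : H, s • x = (1 : K) ⊗ₜ[A] h := by
  induction x using TensorProduct.induction_on with
  | zero => exact ⟨1, one_ne_zero, 0, by simp⟩
  | tmul c h =>
    obtain ⟨a, s, hs, rfl⟩ := IsFractionRing.div_surjective A c
    refine ⟨s, nonZeroDivisors.ne_zero hs, a • h, ?_⟩
    rw [TensorProduct.tmul_smul, TensorProduct.smul_tmul', TensorProduct.smul_tmul', Algebra.smul_def,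
      mul_div_cancel₀ _ (IsFractionRing.to_map_ne_zero_of_mem_nonZeroDivisors hs), Algebra.smul_def, mul_one]
  | add p q hp hq =>
    obtain ⟨s, hs, h, hh⟩ := hp
    obtain ⟨t, ht, h', hh'⟩ := hq
    refine ⟨s * t, mul_ne_zero hs ht, t • h + s • h', ?_⟩
    rw [smul_add, tmul_add, TensorProduct.tmul_smul, TensorProduct.tmul_smul, ← hh, ← hh', smul_smul, smul_smul,
      mul_comm s t]

/-- Every function lies in some layer. -/
theorem exists_mem_E {S : Set H} (hT : HopfRep.IsTrigonalizable K (K ⊗[A] H))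
    (hS : ∀ g', IsGroupLikeElem K g' → ∃ g ∈ S, (1 : K) ⊗ₜ[A] g = g') (h : H) : ∃ r, h ∈ E (A := A) S r := by
  obtain ⟨n, F, h0, hn, hstep⟩ := exists_layers hT ((1 : K) ⊗ₜ[A] h)
  suffices key : ∀ i ≤ n, lat (F i) ≤ E (A := A) S i from ⟨n, key n le_rfl hn⟩
  intro i
  induction i with
  | zero =>
    intro _ x hx
    have : (1 : K) ⊗ₜ[A] x = 0 := (Submodule.mem_bot K).mp (h0 ▸ hx : (1 : K) ⊗ₜ[A] x ∈ (⊥ : Submodule K (K ⊗[A] H)))
    rw [one_tmul_injective (K := K) (this.trans (tmul_zero H (1 : K)).symm)]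
    exact Submodule.zero_mem _
  | succ i ih =>
    intro hi x hx
    obtain ⟨g', hg', hu⟩ := hstep i hi
    obtain ⟨g, hg, rfl⟩ := hS g' hg'
    refine Submodule.subset_span ⟨g, hg, range_rTensor_mono (ih (by omega)) (purity (F i) ?_)⟩
    rw [map_sub, phi_tmul, ← comul_one_tmul]
    exact hu _ hx

variable [IsDiscreteValuationRing A]

/-- Characters of the generic fibre are integral. -/
theorem exists_grouplike (g' : K ⊗[A] H) (hg' : IsGroupLikeElem K g') :
    ∃ g, IsGroupLikeElem A g ∧ (1 : K) ⊗ₜ[A] g = g' := by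
  classical
  obtain ⟨π, hπ⟩ := IsDiscreteValuationRing.exists_irreducible A
  have hex : ∃ m : ℕ, ∃ h : H, π ^ m • g' = (1 : K) ⊗ₜ[A] h := by
    obtain ⟨s, hs, h, hh⟩ := exists_denom (H := H) g'
    obtain ⟨m, u, rfl⟩ := IsDiscreteValuationRing.eq_unit_mul_pow_irreducible hs hπ
    refine ⟨m, (↑u⁻¹ : A) • h, ?_⟩
    rw [TensorProduct.tmul_smul, ← hh, smul_smul, ← mul_assoc, Units.inv_mul, one_mul]
  obtain ⟨h, hh⟩ := Nat.find_spec hex
  set m := Nat.find hex with hm
  have hsq : π ^ m • Coalgebra.comul (R := A) h = h ⊗ₜ[A] h := by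
    refine phi_injective (K := K) ?_
    rw [map_smul, ← comul_one_tmul, phi_tmul, ← hh, LinearMap.map_smul_of_tower, hg'.comul_eq_tmul_self,
      TensorProduct.tmul_smul, TensorProduct.smul_tmul']
  rcases Nat.eq_zero_or_pos m with h0 | hpos
  · rw [h0, pow_zero, one_smul] at hh hsq
    refine ⟨h, ⟨IsFractionRing.injective A K ?_, hsq⟩, hh.symm⟩
    have := hg'.counit_eq_one
    rw [hh, TensorProduct.counit_tmul, CommSemiring.counit_apply] at this
    rw [map_one, ← this, Algebra.smul_def, mul_one]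
  · exfalso
    let k := IsLocalRing.ResidueField A
    have hπk : algebraMap A k π = 0 := by
      rw [IsLocalRing.ResidueField.algebraMap_eq, IsLocalRing.residue_eq_zero_iff, hπ.maximalIdeal_eq]
      exact Ideal.mem_span_singleton_self π
    have h1 : ((1 : k) ⊗ₜ[A] h) ⊗ₜ[k] ((1 : k) ⊗ₜ[A] h) = 0 := by
      rw [← phi_tmul, ← hsq, map_smul, ← algebraMap_smul k (π ^ m), map_pow, hπk, zero_pow hpos.ne', zero_smul]
    have h2 : (1 : k) ⊗ₜ[A] h = 0 := by
      by_contra hne
      obtain ⟨φ, hφ⟩ := Module.Projective.exists_dual_eq_one k hne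
      have := congrArg (fun t => TensorProduct.lid k k (TensorProduct.map φ φ t)) h1
      simp [hφ] at this
    obtain ⟨h', rfl⟩ : ∃ h', h = π • h' := by
      have h3 : TensorProduct.quotTensorEquivQuotSMul H (IsLocalRing.maximalIdeal A)
          ((1 : A ⧸ IsLocalRing.maximalIdeal A) ⊗ₜ[A] h) = 0 := by
        erw [h2, map_zero]
      rw [← map_one (Ideal.Quotient.mk (IsLocalRing.maximalIdeal A)), TensorProduct.quotTensorEquivQuotSMul_mk_tmul,
        one_smul, Submodule.Quotient.mk_eq_zero, hπ.maximalIdeal_eq,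
        Submodule.ideal_span_singleton_smul, Submodule.mem_smul_pointwise_iff_exists] at h3
      obtain ⟨b, -, hb⟩ := h3
      exact ⟨b, hb.symm⟩
    refine Nat.find_min hex (show m - 1 < Nat.find hex by omega) ⟨h', ?_⟩
    have hπK : algebraMap A K π ≠ 0 := (map_ne_zero_iff _ (IsFractionRing.injective A K)).mpr hπ.ne_zero
    refine smul_right_injective (K ⊗[A] H) hπK ?_
    show algebraMap A K π • (π ^ (m - 1) • g') = algebraMap A K π • _
    rw [algebraMap_smul, algebraMap_smul, smul_smul, ← pow_succ', show m - 1 + 1 = m by omega, hh,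
      TensorProduct.tmul_smul]

theorem isTrigonalizable_special (hT : HopfRep.IsTrigonalizable K (K ⊗[A] H)) :
    HopfRep.IsTrigonalizable (IsLocalRing.ResidueField A) (IsLocalRing.ResidueField A ⊗[A] H) := by
  let S : Set H := {g | IsGroupLikeElem A g}
  obtain ⟨C, h0, hmono, htop, hstep⟩ := exists_special (IsLocalRing.ResidueField A) S (fun g hg => hg)
    (exists_mem_E hT fun g' hg' => exists_grouplike g' hg')
  refine isTrigonalizable_of_filtration h0 hmono htop fun r => (hstep r).trans (Submodule.span_mono ?_)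
  rintro x ⟨_, ⟨g, hg, rfl⟩, hx⟩
  exact ⟨_, isGroupLikeElem_one_tmul _ hg, hx⟩

omit [IsDiscreteValuationRing A] in
theorem isUnipotent_special (k : Type u) [Field k] [Algebra A k] (hU : HopfRep.IsUnipotent K (K ⊗[A] H)) :
    HopfRep.IsUnipotent k (k ⊗[A] H) := by
  obtain ⟨C, h0, hmono, htop, hstep⟩ := exists_special k ({1} : Set H)
    (fun g hg => by rw [Set.mem_singleton_iff.mp hg]; exact IsGroupLikeElem.one)
    (exists_mem_E (isTrigonalizable_of_isUnipotent hU) fun g' hg' => ⟨1, rfl, (eq_one_of_isUnipotent hU hg').symm⟩)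
  refine isUnipotent_of_filtration_one h0 hmono htop fun r => (hstep r).trans (Submodule.span_mono ?_)
  rintro x ⟨_, ⟨g, hg, rfl⟩, hx⟩
  rw [Set.mem_singleton_iff.mp hg] at hx
  exact ⟨1, rfl, hx⟩

end Generic

end Groth.Agent.SpecialTrig
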