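import Groth.Agent.ComodLib.Trig
import Groth.Agent.ComodLib.Coalg
import Groth.Agent.ComodLib.Unitriangular
import Mathlib.RingTheory.Coalgebra.GroupLike

/-!
# Filtrations by group-like layers
-/

universe u v

open TensorProduct

namespace Groth.Agent.SpecialTrig

open Groth.Agent.ComodLib

section Crit

variable {k : Type u} [Field k] {A : Type v} [AddCommGroup A] [Module k A] [Coalgebra k A]

/-- An exhaustive filtration whose layers are spanned by twisted primitive elements for a set of group-likes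
gives every nonzero comodule an eigenvector for one of them. -/
theorem exists_eigen_of_filtration {S : Set A} (hS : ∀ g ∈ S, IsGroupLikeElem k g) {C : ℕ → Submodule k A}
    (h0 : C 0 = ⊥) (hmono : Monotone C) (htop : (⨆ r, C r) = ⊤)
    (hstep : ∀ r, C (r + 1) ≤ Submodule.span k {x | ∃ g ∈ S, Coalgebra.comul (R := k) x - x ⊗ₜ[k] g ∈
      LinearMap.range ((C r).subtype.rTensor A)})
    (V : Type v) [AddCommGroup V] [Module k V] [HopfRep.Comod k A V] [Nontrivial V] :
    ∃ w : V, w ≠ 0 ∧ ∃ g ∈ S, HopfRep.Comod.coact (k := k) (A := A) w = w ⊗ₜ[k] g := by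
  classical
  have hcoact : ∀ (ψ : A →ₗ[k] k) (v : V), HopfRep.Comod.coact (k := k) (A := A) (actF ψ v) =
      (slice ψ ∘ₗ Coalgebra.comul (R := k)).lTensor V (HopfRep.Comod.coact (k := k) (A := A) v) := by
    intro ψ v
    have hc := congrArg (TensorProduct.assoc k V A A).symm
      (LinearMap.congr_fun (HopfRep.Comod.coassoc (k := k) (A := A) (V := V)) v)
    simp only [LinearMap.comp_apply, LinearEquiv.coe_coe, LinearEquiv.symm_apply_apply] at hc
    rw [show HopfRep.Comod.coact (k := k) (A := A) (actF ψ v) =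
        slice ψ ((HopfRep.Comod.coact (k := k) (A := A)).rTensor A (HopfRep.Comod.coact (k := k) (A := A) v)) from
      (slice_rTensor ψ _ _).symm, hc]
    induction HopfRep.Comod.coact (k := k) (A := A) v using TensorProduct.induction_on with
    | zero => simp
    | add p q hp hq => simp only [map_add, hp, hq]
    | tmul x a =>
      simp only [LinearMap.lTensor_tmul, LinearMap.comp_apply]
      induction Coalgebra.comul (R := k) a using TensorProduct.induction_on with
      | zero => simp
      | add p q hp hq => simp only [map_add, tmul_add, hp, hq]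
      | tmul p q => simp [slice]
  have hrange : ∀ z : V ⊗[k] A, ∃ r, z ∈ LinearMap.range ((C r).subtype.lTensor V) := fun z => by
    have incl : ∀ {a b : ℕ}, a ≤ b →
        LinearMap.range ((C a).subtype.lTensor V) ≤ LinearMap.range ((C b).subtype.lTensor V) := fun {a b} hab => by
      rintro _ ⟨z, rfl⟩
      refine ⟨(Submodule.inclusion (hmono hab)).lTensor V z, ?_⟩
      rw [← LinearMap.comp_apply, ← LinearMap.lTensor_comp]
      rfl
    induction z using TensorProduct.induction_on with
    | zero => exact ⟨0, Submodule.zero_mem _⟩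
    | tmul x a =>
      obtain ⟨r, hr⟩ := (Submodule.mem_iSup_of_directed _ hmono.directed_le).mp (htop ▸ Submodule.mem_top : a ∈ ⨆ r, C r)
      exact ⟨r, x ⊗ₜ[k] ⟨a, hr⟩, rfl⟩
    | add p q hp hq =>
      obtain ⟨r, hr⟩ := hp
      obtain ⟨s, hs⟩ := hq
      exact ⟨max r s, add_mem (incl (le_max_left _ _) hr) (incl (le_max_right _ _) hs)⟩
  obtain ⟨v₀, hv₀⟩ := exists_ne (0 : V)
  have hex : ∃ r, ∃ v : V, v ≠ 0 ∧
      HopfRep.Comod.coact (k := k) (A := A) v ∈ LinearMap.range ((C r).subtype.lTensor V) :=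
    (hrange _).imp fun r hr => ⟨v₀, hv₀, hr⟩
  obtain ⟨v, hv0, hv⟩ := Nat.find_spec hex
  have hcoact0 : HopfRep.Comod.coact (k := k) (A := A) v ≠ 0 := fun h => hv0 (by
    rw [← actF_counit (k := k) (C := A) v, actF_apply, h, map_zero])
  obtain ⟨r, hr⟩ : ∃ r, Nat.find hex = r + 1 := by
    refine Nat.exists_eq_succ_of_ne_zero fun h => hcoact0 ?_
    rw [h, h0] at hv
    obtain ⟨z, hz⟩ := hv
    rw [← hz, show (⊥ : Submodule k A).subtype = 0 from LinearMap.ext fun x => (Submodule.mem_bot k).mp x.2,
      LinearMap.lTensor_zero, LinearMap.zero_apply]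
  rw [hr] at hv
  have hkill : ∀ ψ : A →ₗ[k] k, (∀ g ∈ S, ψ g = 0) → actF ψ v = 0 := by
    intro ψ hψ
    by_contra hne
    refine Nat.find_min hex (m := r) (by omega) ⟨_, hne, ?_⟩
    rw [hcoact]
    have hle : C (r + 1) ≤ (C r).comap (slice ψ ∘ₗ Coalgebra.comul (R := k)) := by
      refine (hstep r).trans (Submodule.span_le.mpr ?_)
      rintro x ⟨g, hg, z, hz⟩
      show slice ψ (Coalgebra.comul (R := k) x) ∈ C r
      rw [show Coalgebra.comul (R := k) x = (C r).subtype.rTensor A z + x ⊗ₜ[k] g by rw [hz, sub_add_cancel],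
        map_add, slice_tmul, hψ g hg, zero_smul, add_zero, slice_rTensor]
      exact (slice ψ z).2
    obtain ⟨z, hz⟩ := hv
    refine ⟨((slice ψ ∘ₗ Coalgebra.comul (R := k)).restrict (p := C (r + 1)) (q := C r) fun x hx => Submodule.mem_comap.mp (hle hx)).lTensor V z, ?_⟩
    rw [← hz, ← LinearMap.comp_apply, ← LinearMap.lTensor_comp, ← LinearMap.comp_apply, ← LinearMap.lTensor_comp]
    rfl
  have hli : LinearIndependent k (Subtype.val : S → A) :=
    (linearIndepOn_isGroupLikeElem (R := k) (A := A)).mono hS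
  obtain ⟨y, hy⟩ : ∃ y, (Submodule.span k (Set.range (Subtype.val : S → A))).subtype.lTensor V y =
      HopfRep.Comod.coact (k := k) (A := A) v := by
    let P := Submodule.span k (Set.range (Subtype.val : S → A))
    refine (Module.Flat.lTensor_exact (M := V) (LinearMap.exact_subtype_mkQ P) _).mp ?_
    refine eq_zero_of_forall_slice_eq_zero fun χ => ?_
    rw [slice_lTensor, ← actF_apply]
    refine hkill _ fun g hg => ?_
    rw [LinearMap.comp_apply, Submodule.mkQ_apply,
      (Submodule.Quotient.mk_eq_zero _).mpr (Submodule.subset_span (s := Set.range (Subtype.val : S → A)) ⟨⟨g, hg⟩, rfl⟩), map_zero]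
  let b := Module.Basis.span hli
  have hb : ∀ g : S, ((b g : Submodule.span k (Set.range (Subtype.val : S → A))) : A) = g.1 := fun g =>
    congrArg Subtype.val (Module.Basis.span_apply hli g)
  choose ψ hψ using fun h : S => LinearMap.exists_extend (b.coord h)
  have hψ' : ∀ (h : S) (p : Submodule.span k (Set.range (Subtype.val : S → A))), ψ h (p : A) = b.coord h p :=
    fun h p => LinearMap.congr_fun (hψ h) p
  obtain ⟨h, hne⟩ : ∃ h : S, actF (ψ h) v ≠ 0 := by
    by_contra hall
    simp only [not_exists, not_not] at hall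
    refine hcoact0 ?_
    rw [← hy]
    suffices hy0 : y = 0 by rw [hy0, map_zero]
    have hcomp : ∀ h : S, TensorProduct.rid k V ((b.coord h).lTensor V y) = 0 := fun h => by
      rw [← hall h, actF_apply, ← hy, ← hψ h, LinearMap.lTensor_comp]
      rfl
    have e : ∀ (h : S) (t : V ⊗[k] Submodule.span k (Set.range (Subtype.val : S → A))),
        TensorProduct.finsuppScalarRight k k V S (b.repr.toLinearMap.lTensor V t) h =
          TensorProduct.rid k V ((b.coord h).lTensor V t) := fun h t => by
      induction t using TensorProduct.induction_on with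
      | zero => simp
      | add p q hp hq => simp only [map_add, Finsupp.add_apply, hp, hq]
      | tmul x p =>
        rw [LinearMap.lTensor_tmul, LinearMap.lTensor_tmul, LinearEquiv.coe_coe,
          TensorProduct.finsuppScalarRight_apply_tmul_apply, TensorProduct.rid_tmul, Module.Basis.coord_apply]
    have : b.repr.toLinearMap.lTensor V y = 0 := (TensorProduct.finsuppScalarRight k k V S).injective
      (Finsupp.ext fun h => by rw [e, hcomp, map_zero, Finsupp.zero_apply])
    have h2 : Function.Injective (b.repr.toLinearMap.lTensor V) := by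
      exact (LinearEquiv.lTensor V b.repr).injective
    exact h2 (by rw [this, map_zero])
  refine ⟨_, hne, h.1, h.2, ?_⟩
  rw [hcoact]
  have hspan : ∀ p ∈ Submodule.span k (Set.range (Subtype.val : S → A)),
      slice (ψ h) (Coalgebra.comul (R := k) p) = ψ h p • h.1 := by
    intro p hp
    induction hp using Submodule.span_induction with
    | mem x hx =>
      obtain ⟨g, rfl⟩ := hx
      rw [(hS g.1 g.2).comul_eq_tmul_self, slice_tmul]
      by_cases hgh : g = h
      · subst hgh; rfl
      · rw [show ψ h g.1 = 0 by rw [← hb, hψ', Module.Basis.coord_apply, b.repr_self, Finsupp.single_eq_of_ne (Ne.symm hgh)]]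
        simp
    | zero => simp
    | add p q _ _ hp hq => rw [map_add, map_add, hp, hq, map_add, add_smul]
    | smul a p _ hp => rw [map_smul, map_smul, hp, map_smul, smul_eq_mul, mul_smul]
  rw [← hy, actF_apply, ← hy]
  clear hy
  induction y using TensorProduct.induction_on with
  | zero => simp
  | add p q hp hq => simp only [map_add, add_tmul, hp, hq]
  | tmul x p =>
    simp only [LinearMap.lTensor_tmul, Submodule.subtype_apply, slice_tmul, LinearMap.comp_apply, hspan p p.2,
      TensorProduct.smul_tmul]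

end Crit

section Hopf

variable {k : Type u} [Field k] {A : Type v} [CommRing A] [Bialgebra k A]

/-- The line through a vector with the given coaction is a subcomodule. -/
theorem isSubcomod_span_singleton {V : Type v} [AddCommGroup V] [Module k V] [HopfRep.Comod k A V] {w : V} {g : A}
    (hw : HopfRep.Comod.coact (k := k) (A := A) w = w ⊗ₜ[k] g) :
    HopfRep.IsSubcomod (k := k) (A := A) (Submodule.span k {w}) :=
  isSubcomod_iff_actF.mpr fun φ u hu => by
    obtain ⟨c, rfl⟩ := Submodule.mem_span_singleton.mp hu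
    rw [map_smul, actF_apply, hw, slice_tmul]
    exact Submodule.smul_mem _ _ (Submodule.smul_mem _ _ (Submodule.mem_span_singleton_self w))

theorem isTrigonalizable_of_filtration {C : ℕ → Submodule k A} (h0 : C 0 = ⊥) (hmono : Monotone C)
    (htop : (⨆ r, C r) = ⊤)
    (hstep : ∀ r, C (r + 1) ≤ Submodule.span k {x | ∃ g ∈ {g : A | IsGroupLikeElem k g},
      Coalgebra.comul (R := k) x - x ⊗ₜ[k] g ∈ LinearMap.range ((C r).subtype.rTensor A)}) :
    HopfRep.IsTrigonalizable k A := by
  intro V _ _ _ _ hs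
  haveI := hs.1
  obtain ⟨w, hw, g, -, hwg⟩ := exists_eigen_of_filtration (fun g hg => hg) h0 hmono htop hstep V
  have h := (hs.2 _ (isSubcomod_span_singleton hwg)).resolve_left (by simpa using hw)
  rw [← finrank_top k V, ← h, finrank_span_singleton hw]

theorem isUnipotent_of_filtration_one {C : ℕ → Submodule k A} (h0 : C 0 = ⊥) (hmono : Monotone C)
    (htop : (⨆ r, C r) = ⊤)
    (hstep : ∀ r, C (r + 1) ≤ Submodule.span k {x | ∃ g ∈ ({1} : Set A),
      Coalgebra.comul (R := k) x - x ⊗ₜ[k] g ∈ LinearMap.range ((C r).subtype.rTensor A)}) :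
    HopfRep.IsUnipotent k A := by
  intro V _ _ _ _ _
  obtain ⟨w, hw, g, hg, hwg⟩ := exists_eigen_of_filtration
    (fun g hg => by rw [Set.mem_singleton_iff.mp hg]; exact IsGroupLikeElem.one) h0 hmono htop hstep V
  rw [Set.mem_singleton_iff.mp hg] at hwg
  exact (Submodule.ne_bot_iff _).mpr ⟨w, hwg, hw⟩

theorem isTrigonalizable_of_isUnipotent (hU : HopfRep.IsUnipotent k A) : HopfRep.IsTrigonalizable k A := by
  intro V _ _ _ hf hs
  haveI := hs.1
  obtain ⟨w, hw, hw0⟩ := (Submodule.ne_bot_iff _).mp (hU V hf hs.1)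
  have h := (hs.2 _ (isSubcomod_span_singleton (g := 1) hw)).resolve_left (by simpa using hw0)
  rw [← finrank_top k V, ← h, finrank_span_singleton hw0]

theorem eq_one_of_isUnipotent (hU : HopfRep.IsUnipotent k A) {g : A} (hg : IsGroupLikeElem k g) : g = 1 := by
  have hg0 : g ≠ 0 := fun h => by simpa [h] using hg.counit_eq_one
  let U : Submodule k A := Submodule.span k {g}
  have hU' : HopfRep.IsSubcomod (k := k) (A := A) U :=
    isSubcomod_span_singleton (show HopfRep.Comod.coact (k := k) (A := A) g = g ⊗ₜ[k] g from hg.comul_eq_tmul_self)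
  letI : HopfRep.Comod k A U := ComodSub.Comod.restr (HopfRep.Comod.regular k A) U hU'
  haveI : Nontrivial U := ⟨⟨g, Submodule.mem_span_singleton_self g⟩, 0, fun h => hg0 (congrArg Subtype.val h)⟩
  obtain ⟨w, hw, hw0⟩ := (Submodule.ne_bot_iff _).mp (hU U inferInstance inferInstance)
  obtain ⟨c, hc⟩ := Submodule.mem_span_singleton.mp w.2
  have h : Coalgebra.comul (R := k) (w : A) = (w : A) ⊗ₜ[k] (1 : A) := by
    refine (ComodSub.restr_coact_coe (HopfRep.Comod.regular k A) U hU' w).symm.trans ?_
    rw [show (ComodSub.Comod.restr (HopfRep.Comod.regular k A) U hU').coact w = w ⊗ₜ[k] (1 : A) from hw]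
    rfl
  rw [← hc, map_smul, hg.comul_eq_tmul_self] at h
  have h2 := congrArg (fun t => TensorProduct.lid k A (Coalgebra.counit.rTensor A t)) h
  have h3 : c • g = c • (1 : A) := by simpa [hg.counit_eq_one] using h2
  refine smul_right_injective A (fun hc0 : c = 0 => hw0 (Subtype.ext ?_)) h3
  rw [← hc, hc0, zero_smul]
  rfl

theorem exists_rTensor_subtype {V : Type*} [AddCommGroup V] [Module k V] (P : Submodule k V)
    (y : V ⊗[k] A) (h : P.mkQ.rTensor A y = 0) : ∃ z, P.subtype.rTensor A z = y :=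
  ((rTensor_exact A (LinearMap.exact_subtype_mkQ P) P.mkQ_surjective) y).mp h

/-- In a trigonalisable group every function lies at the top of a flag with group-like layers. -/
theorem exists_layers (hT : HopfRep.IsTrigonalizable k A) (x : A) :
    ∃ (n : ℕ) (F : ℕ → Submodule k A), F 0 = ⊥ ∧ x ∈ F n ∧ ∀ i < n, ∃ g, IsGroupLikeElem k g ∧
      ∀ u ∈ F (i + 1), Coalgebra.comul (R := k) u - u ⊗ₜ[k] g ∈ LinearMap.range ((F i).subtype.rTensor A) := by
  obtain ⟨U, hUf, hx, hU⟩ := exists_finite_subcomod_mem (k := k) (C := A) (V := A) x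
  letI cU : HopfRep.Comod k A U := ComodSub.Comod.restr (HopfRep.Comod.regular k A) U hU
  obtain ⟨F₀, hmono, hsub, htop, hrank⟩ := exists_flag hT U
  refine ⟨Module.finrank k U, fun i => (F₀ i).map U.subtype, ?_, ⟨⟨x, hx⟩, htop ▸ Submodule.mem_top, rfl⟩,
    fun i hi => ?_⟩
  · show (F₀ 0).map U.subtype = ⊥
    rw [Submodule.finrank_eq_zero.mp (hrank 0 (Nat.zero_le _)), Submodule.map_bot]
  have hlt : F₀ i < F₀ (i + 1) := lt_of_le_of_ne (hmono (Nat.le_succ i)) fun h => by
    have h1 := hrank i hi.le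
    have h2 := hrank (i + 1) hi
    rw [h] at h1; omega
  obtain ⟨e, he, he'⟩ := SetLike.exists_of_lt hlt
  have hsup : F₀ i ⊔ Submodule.span k {e} = F₀ (i + 1) := by
    refine Submodule.eq_of_le_of_finrank_le (sup_le hlt.le (by simpa using he)) ?_
    have hlt' : F₀ i < F₀ i ⊔ Submodule.span k {e} := lt_of_le_of_ne le_sup_left fun h =>
      he' (h ▸ Submodule.mem_sup_right (Submodule.mem_span_singleton_self e))
    have := Submodule.finrank_lt_finrank_of_lt hlt'
    rw [hrank (i + 1) hi]; rw [hrank i hi.le] at this; omega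
  obtain ⟨φ, hφe, hφF⟩ := Submodule.exists_dual_map_eq_bot_of_notMem he' inferInstance
  obtain ⟨ψ, hψ, hψF⟩ : ∃ ψ : U →ₗ[k] k, ψ e = 1 ∧ ∀ u ∈ F₀ i, ψ u = 0 :=
    ⟨(φ e)⁻¹ • φ, inv_mul_cancel₀ hφe, fun u hu => by
      have : φ u = 0 := by
        have := hφF ▸ Submodule.mem_map_of_mem (f := φ) hu
        simpa using this
      simp [this]⟩
  let a : A := coefFun (C := A) ψ e
  obtain ⟨z, hz⟩ : ∃ z, (F₀ i).subtype.rTensor A z = cU.coact e - e ⊗ₜ[k] a := by
    obtain ⟨z, hz⟩ := hsub (i + 1) e he
    refine exists_rTensor_subtype (A := A) (F₀ i) _ ?_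
    have key : ∀ u ∈ F₀ (i + 1), (F₀ i).mkQ u = ψ u • (F₀ i).mkQ e := fun u hu => by
      obtain ⟨f, hf, t, ht, rfl⟩ := Submodule.mem_sup.mp (hsup.ge hu)
      obtain ⟨c, rfl⟩ := Submodule.mem_span_singleton.mp ht
      simp [hψF f hf, hψ, (Submodule.Quotient.mk_eq_zero _).mpr hf]
    have : (F₀ i).mkQ.rTensor A (cU.coact e) = (F₀ i).mkQ e ⊗ₜ[k] a := by
      show _ = (F₀ i).mkQ e ⊗ₜ[k] TensorProduct.lid k A (ψ.rTensor A (cU.coact e))
      rw [← hz]
      clear hz
      induction z using TensorProduct.induction_on with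
      | zero => simp
      | add p q hp hq => simp only [map_add, tmul_add, hp, hq]
      | tmul u c =>
        simp only [LinearMap.rTensor_tmul, Submodule.subtype_apply, key u u.2, TensorProduct.lid_tmul, TensorProduct.smul_tmul]
    rw [map_sub, this, LinearMap.rTensor_tmul, sub_self]
  have hcoe : ∀ w : U ⊗[k] A, ∀ _ : w ∈ LinearMap.range ((F₀ i).subtype.rTensor A),
      U.subtype.rTensor A w ∈ LinearMap.range (((F₀ i).map U.subtype).subtype.rTensor A) := by
    rintro _ ⟨z, rfl⟩
    refine ⟨(U.subtype.restrict fun u hu => Submodule.mem_map_of_mem hu).rTensor A z, ?_⟩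
    rw [← LinearMap.comp_apply, ← LinearMap.rTensor_comp, ← LinearMap.comp_apply, ← LinearMap.rTensor_comp]
    rfl
  have hga : IsGroupLikeElem k a := by
    refine ⟨(counit_coefFun ψ e).trans hψ, ?_⟩
    have h := LinearMap.congr_fun (isComodHom_coefFun (C := A) ψ) e
    simp only [LinearMap.comp_apply] at h
    have h2 : (coefFun (C := A) ψ).rTensor A (cU.coact e) = a ⊗ₜ[k] a := by
      rw [show cU.coact e = (F₀ i).subtype.rTensor A z + e ⊗ₜ[k] a by rw [hz, sub_add_cancel], map_add,
        ← LinearMap.comp_apply, ← LinearMap.rTensor_comp, show coefFun (C := A) ψ ∘ₗ (F₀ i).subtype = 0 from ?_,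
        LinearMap.rTensor_zero, LinearMap.zero_apply, zero_add, LinearMap.rTensor_tmul]
      refine LinearMap.ext fun u => ?_
      obtain ⟨y, hy⟩ := hsub i u u.2
      show TensorProduct.lid k A (ψ.rTensor A (cU.coact (u : U))) = 0
      rw [show cU.coact (u : U) = _ from hy.symm, ← LinearMap.comp_apply (ψ.rTensor A), ← LinearMap.rTensor_comp,
        show ψ ∘ₗ (F₀ i).subtype = 0 from LinearMap.ext fun w => hψF w w.2, LinearMap.rTensor_zero]
      simp
    rw [← h2]
    first | exact h.symm | exact h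
  refine ⟨a, hga, ?_⟩
  rintro _ ⟨u, hu, rfl⟩
  show Coalgebra.comul (R := k) (u : A) - (u : A) ⊗ₜ[k] a ∈ _
  rw [show Coalgebra.comul (R := k) (u : A) = U.subtype.rTensor A (cU.coact u) from
    (ComodSub.restr_coact_coe (HopfRep.Comod.regular k A) U hU u).symm,
    show (u : A) ⊗ₜ[k] a = U.subtype.rTensor A (u ⊗ₜ[k] a) from rfl, ← map_sub]
  refine hcoe _ ?_
  obtain ⟨f, hf, t, ht, rfl⟩ := Submodule.mem_sup.mp (hsup.ge hu)
  obtain ⟨c, rfl⟩ := Submodule.mem_span_singleton.mp ht
  rw [map_add, map_smul, add_tmul, ← TensorProduct.smul_tmul']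
  obtain ⟨zf, hzf⟩ := hsub i f hf
  refine ⟨zf + (⟨-f, neg_mem hf⟩ : F₀ i) ⊗ₜ[k] a + c • z, ?_⟩
  rw [map_add, map_add, map_smul, hz, hzf, LinearMap.rTensor_tmul, Submodule.subtype_apply, smul_sub,
    TensorProduct.neg_tmul]
  abel

end Hopf

end Groth.Agent.SpecialTrig
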